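import Groth.Prelude.Def_Found
import Mathlib

set_option autoImplicit false
universe u
open TensorProduct

namespace Groth.Agent.GRingLib

section tmap
variable {A A' B B' C C' : Type u} [CommRing A] [CommRing A'] [CommRing B] [CommRing B']
  [CommRing C] [CommRing C'] [Algebra A B] [Algebra A C] [Algebra A' B'] [Algebra A' C']

/-- Map of tensor products of algebras along compatible ring maps. -/
noncomputable def tmap (φ : A →+* A') (f : B →+* B') (g : C →+* C')
    (hf : f.comp (algebraMap A B) = (algebraMap A' B').comp φ)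
    (hg : g.comp (algebraMap A C) = (algebraMap A' C').comp φ) :
    B ⊗[A] C →+* B' ⊗[A'] C' :=
  letI : Algebra A (B' ⊗[A'] C') := ((algebraMap A' (B' ⊗[A'] C')).comp φ).toAlgebra
  (Algebra.TensorProduct.lift
    ({ (Algebra.TensorProduct.includeLeftRingHom.comp f : B →+* B' ⊗[A'] C') with
       commutes' := fun a => by
        show f (algebraMap A B a) ⊗ₜ[A'] (1 : C') = algebraMap A' (B' ⊗[A'] C') (φ a)
        rw [Algebra.TensorProduct.algebraMap_apply]
        exact congrArg (fun b => b ⊗ₜ[A'] (1 : C')) (RingHom.congr_fun hf a) } :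
      B →ₐ[A] B' ⊗[A'] C')
    ({ ((Algebra.TensorProduct.includeRight : C' →ₐ[A'] B' ⊗[A'] C').toRingHom.comp g :
        C →+* B' ⊗[A'] C') with
       commutes' := fun a => by
        show (1 : B') ⊗ₜ[A'] g (algebraMap A C a) = algebraMap A' (B' ⊗[A'] C') (φ a)
        rw [Algebra.TensorProduct.algebraMap_apply',
          show g (algebraMap A C a) = algebraMap A' C' (φ a) from RingHom.congr_fun hg a] } :
      C →ₐ[A] B' ⊗[A'] C')
    (fun _ _ => Commute.all _ _)).toRingHom

lemma tmap_tmul (φ : A →+* A') (f : B →+* B') (g : C →+* C')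
    (hf : f.comp (algebraMap A B) = (algebraMap A' B').comp φ)
    (hg : g.comp (algebraMap A C) = (algebraMap A' C').comp φ) (b : B) (c : C) :
    tmap φ f g hf hg (b ⊗ₜ[A] c) = f b ⊗ₜ[A'] g c := by
  simp [tmap]

/-- Equivalence of tensor products of algebras along compatible ring equivalences. -/
noncomputable def tequiv (φ : A ≃+* A') (f : B ≃+* B') (g : C ≃+* C')
    (hf : ∀ a, f (algebraMap A B a) = algebraMap A' B' (φ a))
    (hg : ∀ a, g (algebraMap A C a) = algebraMap A' C' (φ a)) :
    B ⊗[A] C ≃+* B' ⊗[A'] C' :=
  RingEquiv.ofRingHom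
    (tmap φ.toRingHom f.toRingHom g.toRingHom (RingHom.ext hf) (RingHom.ext hg))
    (tmap φ.symm.toRingHom f.symm.toRingHom g.symm.toRingHom
      (RingHom.ext fun a => f.injective (by simp [hf]))
      (RingHom.ext fun a => g.injective (by simp [hg])))
    (by
      apply RingHom.ext
      intro x
      induction x using TensorProduct.induction_on with
      | zero => simp
      | add x y hx hy => simp only [map_add, hx, hy]
      | tmul b c => simp [tmap_tmul])
    (by
      apply RingHom.ext
      intro x
      induction x using TensorProduct.induction_on with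
      | zero => simp
      | add x y hx hy => simp only [map_add, hx, hy]
      | tmul b c => simp [tmap_tmul])

lemma tequiv_tmul (φ : A ≃+* A') (f : B ≃+* B') (g : C ≃+* C')
    (hf : ∀ a, f (algebraMap A B a) = algebraMap A' B' (φ a))
    (hg : ∀ a, g (algebraMap A C a) = algebraMap A' C' (φ a)) (b : B) (c : C) :
    tequiv φ f g hf hg (b ⊗ₜ[A] c) = f b ⊗ₜ[A'] g c :=
  tmap_tmul φ.toRingHom f.toRingHom g.toRingHom (RingHom.ext hf) (RingHom.ext hg) b c

end tmap

lemma isGeometricallyRegular_of_equiv {k k' F F' : Type u} [Field k] [Field k']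
    [CommRing F] [CommRing F'] [Algebra k F] [Algebra k' F'] (e : k ≃+* k') (g : F ≃+* F')
    (hg : ∀ a, g (algebraMap k F a) = algebraMap k' F' (e a))
    (h : CAlg.IsGeometricallyRegular k F) : CAlg.IsGeometricallyRegular k' F' := by
  intro K _ _ hfin
  letI : Algebra k K := ((algebraMap k' K).comp e.toRingHom).toAlgebra
  have hK : Module.Finite k K := by
    rw [← RingHom.finite_algebraMap]
    exact RingHom.Finite.comp (RingHom.finite_algebraMap.mpr hfin)
      (RingHom.Finite.of_surjective _ e.surjective)
  have := h K hK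
  exact IsRegularRing.of_ringEquiv (tequiv e (RingEquiv.refl K) g (fun _ => rfl) hg)

lemma isRegularHom_of_equiv {A A' S S' : Type u} [CommRing A] [CommRing A'] [CommRing S]
    [CommRing S'] [Algebra A S] [Algebra A' S'] (eA : A ≃+* A') (eS : S ≃+* S')
    (hc : ∀ a, eS (algebraMap A S a) = algebraMap A' S' (eA a))
    (h : CAlg.IsRegularHom A S) : CAlg.IsRegularHom A' S' := by
  refine ⟨?_, ?_⟩
  · have h1 : (eS.toRingHom.comp ((algebraMap A S).comp eA.symm.toRingHom)).Flat :=
      RingHom.Flat.comp (RingHom.Flat.comp (RingHom.Flat.of_bijective eA.symm.bijective)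
        (RingHom.flat_algebraMap_iff.mpr h.1)) (RingHom.Flat.of_bijective eS.bijective)
    have h2 : eS.toRingHom.comp ((algebraMap A S).comp eA.symm.toRingHom) = algebraMap A' S' := by
      ext a
      simp [hc]
    rw [h2] at h1
    exact RingHom.flat_algebraMap_iff.mp h1
  · intro p' _
    obtain ⟨hN, hG⟩ := h.2 (p'.comap eA.toRingHom)
    let r := Ideal.residueFieldRingEquiv (p'.comap eA.toRingHom) p' eA rfl
    have hr : ∀ a, r (algebraMap A (p'.comap eA.toRingHom).ResidueField a) =
        algebraMap A' p'.ResidueField (eA a) := by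
      intro a
      rw [IsScalarTower.algebraMap_apply A (Localization.AtPrime (p'.comap eA.toRingHom)),
        IsScalarTower.algebraMap_apply A' (Localization.AtPrime p')]
      show IsLocalRing.residue _ (Localization.localRingHom _ p' eA.toRingHom rfl
        (algebraMap A (Localization.AtPrime (p'.comap eA.toRingHom)) a)) = _
      rw [Localization.localRingHom_to_map]
      rfl
    refine ⟨isNoetherianRing_of_ringEquiv _ (tequiv eA r eS hr hc), ?_⟩
    refine isGeometricallyRegular_of_equiv r (tequiv eA r eS hr hc) ?_ hG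
    intro a
    rw [Algebra.TensorProduct.algebraMap_apply, Algebra.TensorProduct.algebraMap_apply,
      tequiv_tmul]
    simp only [Algebra.algebraMap_self, RingHom.id_apply, map_one]

section completion
variable {R R' : Type u} [CommRing R] [CommRing R'] (I : Ideal R) (J : Ideal R')

/-- Levelwise maps to the quotients by powers of `J`. -/
noncomputable def clevel (f : R →+* R') (h : I.map f ≤ J) (n : ℕ) :
    AdicCompletion I R →+* R' ⧸ J ^ n :=
  (Ideal.quotientMap (J ^ n) f (Ideal.map_le_iff_le_comap.mp
      ((Ideal.map_pow f I n).trans_le (Ideal.pow_right_mono h n)))).comp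
    (AdicCompletion.evalₐ I n).toRingHom

lemma clevel_compat (f : R →+* R') (h : I.map f ≤ J) {m n : ℕ} (hle : m ≤ n) :
    (Ideal.Quotient.factorPow J hle).comp (clevel I J f h n) = clevel I J f h m := by
  ext x
  obtain ⟨c, rfl⟩ := AdicCompletion.mk_surjective I R x
  simp only [clevel, RingHom.comp_apply, AlgHom.toRingHom_eq_coe, RingHom.coe_coe,
    AdicCompletion.evalₐ_mk, Ideal.quotientMap_mk, Ideal.Quotient.factor_mk]
  rw [Ideal.Quotient.eq, ← map_sub]
  exact Ideal.pow_right_mono h m ((Ideal.map_pow f I m) ▸
    Ideal.mem_map_of_mem f (Ideal.Quotient.eq.mp (AdicCompletion.Ideal.mk_eq_mk I hle c)))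

/-- Map of adic completions along a ring map sending `I` into `J`. -/
noncomputable def cmap (f : R →+* R') (h : I.map f ≤ J) :
    AdicCompletion I R →+* AdicCompletion J R' :=
  AdicCompletion.liftRingHom J (clevel I J f h) (clevel_compat I J f h)

lemma evalₐ_cmap (f : R →+* R') (h : I.map f ≤ J) (n : ℕ) (x : AdicCompletion I R) :
    AdicCompletion.evalₐ J n (cmap I J f h x) =
      Ideal.quotientMap (J ^ n) f (Ideal.map_le_iff_le_comap.mp
        ((Ideal.map_pow f I n).trans_le (Ideal.pow_right_mono h n)))
        (AdicCompletion.evalₐ I n x) :=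
  AdicCompletion.evalₐ_liftRingHom J (clevel I J f h) (clevel_compat I J f h) n x

lemma cmap_algebraMap (f : R →+* R') (h : I.map f ≤ J) (a : R) :
    cmap I J f h (algebraMap R (AdicCompletion I R) a) =
      algebraMap R' (AdicCompletion J R') (f a) := by
  apply AdicCompletion.ext_evalₐ
  intro n
  rw [evalₐ_cmap, AlgHom.commutes, AlgHom.commutes]
  simp [Ideal.Quotient.algebraMap_eq]

/-- Equivalence of adic completions along a ring equivalence. -/
noncomputable def cequiv (e : R ≃+* R') (h : I.map e.toRingHom = J) :
    AdicCompletion I R ≃+* AdicCompletion J R' :=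
  RingEquiv.ofRingHom (cmap I J e.toRingHom h.le)
    (cmap J I e.symm.toRingHom (by
      rw [← h, Ideal.map_map]
      simp [RingEquiv.toRingHom_eq_coe]))
    (by
      apply RingHom.ext
      intro x
      apply AdicCompletion.ext_evalₐ
      intro n
      rw [RingHom.comp_apply, evalₐ_cmap, evalₐ_cmap]
      obtain ⟨a, ha⟩ := Ideal.Quotient.mk_surjective (AdicCompletion.evalₐ J n x)
      simp [← ha])
    (by
      apply RingHom.ext
      intro x
      apply AdicCompletion.ext_evalₐ
      intro n
      rw [RingHom.comp_apply, evalₐ_cmap, evalₐ_cmap]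
      obtain ⟨a, ha⟩ := Ideal.Quotient.mk_surjective (AdicCompletion.evalₐ I n x)
      simp [← ha])

end completion

/-- Regularity of the completion map is invariant under isomorphism of local rings. -/
lemma isRegularHom_completion_of_equiv {R R' : Type u} [CommRing R] [CommRing R'] [IsLocalRing R]
    [IsLocalRing R'] (e : R ≃+* R')
    (h : CAlg.IsRegularHom R (AdicCompletion (IsLocalRing.maximalIdeal R) R)) :
    CAlg.IsRegularHom R' (AdicCompletion (IsLocalRing.maximalIdeal R') R') :=
  isRegularHom_of_equiv e
    (cequiv _ _ e (IsLocalRing.map_ringEquiv_maximalIdeal e))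
    (fun a => cmap_algebraMap _ _ e.toRingHom
      (IsLocalRing.map_ringEquiv_maximalIdeal e).le a) h

end Groth.Agent.GRingLib
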